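import Cfsg.Agent.H439.Der.Tools
import Cfsg.Agent.H947.El.Sz
import Cfsg.Agent.H436.Names
import Cfsg.Prelude.Def_GeometricClasses

/-!
# `Sz(8)` in dimension at most 8 over `F₃` (TEAM ELUSIVE, piece A, helper768)

* `eig_lemma` : a matrix `x ≠ 1` over a field with 3 elements with `x ^ 13 = 1`, conjugate to `x ^ 5`, has size at least 12;
* `exists_thirteen` : `Sz(8)` has an element of order 13 conjugate to its fifth power;
* `sz_res`.
-/

set_option autoImplicit false

namespace Cfsg.Agent.H768.El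

open Cfsg Polynomial Subgroup

section eig

variable {F : Type} [Field F] [Fintype F] {i : Type} [Fintype i] [DecidableEq i]

/-- eigenvalues in the algebraic closure -/
theorem eig_lemma (hF : Fintype.card F = 3) (x g h : Matrix i i F) (hgh : g * h = 1) (hhg : h * g = 1)
    (hx : x ^ 13 = 1) (hx1 : x ≠ 1) (hc : g * x * h = x ^ 5) : 12 ≤ Fintype.card i := by
  classical
  let K := AlgebraicClosure F
  let φ : F →+* K := algebraMap F K
  set A : Matrix i i K := φ.mapMatrix x with hA
  set G : Matrix i i K := φ.mapMatrix g with hG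
  set H : Matrix i i K := φ.mapMatrix h with hH
  have hGH : G * H = 1 := by rw [hG, hH, ← map_mul, hgh, map_one]
  have hHG : H * G = 1 := by rw [hG, hH, ← map_mul, hhg, map_one]
  have hAc : G * A * H = A ^ 5 := by rw [hG, hA, hH, ← map_mul, ← map_mul, hc, map_pow]
  have hA13 : A ^ 13 = 1 := by rw [hA, ← map_pow, hx, map_one]
  have hφ : Function.Injective (φ.mapMatrix : Matrix i i F → Matrix i i K) := by
    intro a b hab
    ext u v
    have := congrFun (congrFun hab u) v
    exact φ.injective this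
  have hA1 : A ≠ 1 := by
    intro h1
    apply hx1
    apply hφ
    rw [← hA, h1, map_one]
  -- eigenvalues
  have heig : ∀ l : K, A.charpoly.eval l = 0 ↔ ∃ v : i → K, v ≠ 0 ∧ A.mulVec v = l • v := by
    intro l
    rw [Matrix.eval_charpoly, ← Matrix.exists_mulVec_eq_zero_iff]
    constructor
    · rintro ⟨v, hv, h1⟩
      refine ⟨v, hv, ?_⟩
      rw [Matrix.sub_mulVec, sub_eq_zero] at h1
      rw [← h1]
      ext u
      simp [Matrix.scalar_apply, Matrix.mulVec_diagonal]
    · rintro ⟨v, hv, h1⟩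
      refine ⟨v, hv, ?_⟩
      rw [Matrix.sub_mulVec, h1, sub_eq_zero]
      ext u
      simp [Matrix.scalar_apply, Matrix.mulVec_diagonal]
  -- a primitive 13th root of unity
  have h13 : NeZero ((13 : ℕ) : K) := by
    refine ⟨?_⟩
    have hch : CharP F 3 := by
      obtain ⟨p, hp⟩ := CharP.exists F
      have hpp : p.Prime := CharP.char_is_prime F p
      obtain ⟨n, _, hn⟩ := FiniteField.card F p
      have h3 : p ∣ 3 := by rw [← hF, hn]; exact dvd_pow_self p n.pos.ne'
      have : p = 3 := (Nat.prime_dvd_prime_iff_eq hpp (by norm_num)).1 h3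
      rwa [this] at hp
    have hchK : CharP K 3 := charP_of_injective_algebraMap (algebraMap F K).injective 3
    rw [Ne, CharP.cast_eq_zero_iff K 3]
    norm_num
  obtain ⟨z, hz⟩ := HasEnoughRootsOfUnity.exists_primitiveRoot K 13
  have hz13 : z ^ 13 = 1 := hz.pow_eq_one
  have hz0 : z ≠ 0 := hz.ne_zero (by norm_num)
  -- projections
  have hproj : ∀ (c : K), c ^ 13 = 1 → ∀ v : i → K,
      A.mulVec (∑ k ∈ Finset.range 13, c ^ k • (A ^ k).mulVec v) =
        c⁻¹ • ∑ k ∈ Finset.range 13, c ^ k • (A ^ k).mulVec v := by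
    intro c hc13 v
    have hc0 : c ≠ 0 := by
      rintro rfl
      norm_num at hc13
    have h1 : ∑ k ∈ Finset.range 13, c ^ (k + 1) • (A ^ (k + 1)).mulVec v =
        ∑ k ∈ Finset.range 13, c ^ k • (A ^ k).mulVec v := by
      rw [Finset.sum_range_succ, Finset.sum_range_succ' (fun k => c ^ k • (A ^ k).mulVec v), hc13, hA13]
      simp
    rw [Matrix.mulVec_sum, ← h1, Finset.smul_sum, ]
    refine Finset.sum_congr rfl fun k _ => ?_
    rw [Matrix.mulVec_smul, Matrix.mulVec_mulVec, ← pow_succ', smul_smul, pow_succ' c, inv_mul_cancel_left₀ hc0]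
  have hsum : ∀ v : i → K, ∑ j ∈ Finset.range 13, ∑ k ∈ Finset.range 13, (z ^ j) ^ k • (A ^ k).mulVec v =
      (13 : K) • v := by
    intro v
    rw [Finset.sum_comm]
    have h1 : ∀ k ∈ Finset.range 13, ∑ j ∈ Finset.range 13, (z ^ j) ^ k • (A ^ k).mulVec v =
        if k = 0 then (13 : K) • v else 0 := by
      intro k hk
      rw [← Finset.sum_smul]
      split_ifs with h0
      · subst h0
        simp
      · have h2 : (z ^ k) ≠ 1 := by
          intro h3
          have := hz.dvd_of_pow_eq_one k h3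
          have := Nat.le_of_dvd (by omega) this
          have := Finset.mem_range.1 hk
          omega
        have h3 : ∑ j ∈ Finset.range 13, (z ^ j) ^ k = 0 := by
          have h4 : ∑ j ∈ Finset.range 13, (z ^ j) ^ k = ∑ j ∈ Finset.range 13, (z ^ k) ^ j :=
            Finset.sum_congr rfl fun j _ => by rw [← pow_mul, ← pow_mul, mul_comm]
          rw [h4]
          have h5 := geom_sum_mul (z ^ k) 13
          rw [← pow_mul, mul_comm k, pow_mul, hz13, one_pow, sub_self] at h5
          exact (mul_eq_zero.1 h5).resolve_right (sub_ne_zero.2 h2)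
        rw [h3, zero_smul]
    rw [Finset.sum_congr rfl h1]
    simp
  -- some `z ^ j`, `1 ≤ j ≤ 12`, is an eigenvalue
  have hex : ∃ j ∈ Finset.Icc 1 12, A.charpoly.eval (z ^ j) = 0 := by
    by_contra hcon
    push Not at hcon
    apply hA1
    have hv : ∀ v : i → K, A.mulVec v = v := by
      intro v
      have h0 : ∀ j ∈ Finset.Icc 1 12, ∑ k ∈ Finset.range 13, (z ^ j) ^ k • (A ^ k).mulVec v = 0 := by
        intro j hj
        have hj' := Finset.mem_Icc.1 hj
        by_contra hne
        refine hcon (13 - j) (Finset.mem_Icc.2 ⟨by omega, by omega⟩) ((heig _).2 ⟨_, hne, ?_⟩)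
        rw [hproj (z ^ j) (by rw [← pow_mul, mul_comm, pow_mul, hz13, one_pow]) v]
        congr 1
        exact inv_eq_of_mul_eq_one_right (by rw [← pow_add, show j + (13 - j) = 13 by omega, hz13])
      have h1 := hsum v
      rw [Finset.sum_range_succ', Finset.sum_eq_zero (fun j hj => h0 (j + 1) (Finset.mem_Icc.2
        ⟨by omega, by have := Finset.mem_range.1 hj; omega⟩)), zero_add, pow_zero] at h1
      have h2 := hproj 1 (one_pow 13) v
      rw [h1, Matrix.mulVec_smul, inv_one, one_smul] at h2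
      have h13' : (13 : K) ≠ 0 := by
        have := h13.out
        exact_mod_cast this
      exact smul_right_injective _ h13' h2
    ext a b
    have h1 := congrFun (hv (Pi.single b 1)) a
    rw [Matrix.mulVec_single_one] at h1
    rw [Matrix.one_apply]
    simpa [Matrix.col, Pi.single_apply] using h1
  have h3 : ∀ l : K, A.charpoly.eval l = 0 → A.charpoly.eval (l ^ 3) = 0 := by
    intro l hl
    have h1 : A.charpoly = x.charpoly.map φ := Matrix.charpoly_map x φ
    rw [h1, Polynomial.eval_map, ← hF, ← Polynomial.aeval_def, ← Polynomial.expand_aeval, FiniteField.expand_card,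
      map_pow, Polynomial.aeval_def, ← Polynomial.eval_map, ← h1, hl, zero_pow (by rw [hF]; norm_num)]
  have h5 : ∀ l : K, A.charpoly.eval l = 0 → A.charpoly.eval (l ^ 5) = 0 := by
    intro l hl
    obtain ⟨v, hv, h1⟩ := (heig l).1 hl
    have h2 : ∀ n : ℕ, (A ^ n).mulVec v = l ^ n • v := by
      intro n
      induction n with
      | zero => simp
      | succ n ih => rw [pow_succ', ← Matrix.mulVec_mulVec, ih, Matrix.mulVec_smul, h1, smul_smul, pow_succ]
    refine (heig _).2 ⟨H.mulVec v, ?_, ?_⟩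
    · intro h0
      apply hv
      have : G.mulVec (H.mulVec v) = v := by rw [Matrix.mulVec_mulVec, hGH, Matrix.one_mulVec]
      rw [← this, h0, Matrix.mulVec_zero]
    · have h6 : H * A ^ 5 = A * H := by
        rw [← hAc, ← mul_assoc, ← mul_assoc, hHG, one_mul]
      rw [Matrix.mulVec_mulVec, ← h6, ← Matrix.mulVec_mulVec, h2, Matrix.mulVec_smul]
  obtain ⟨j0, hj0, hj0'⟩ := hex
  have hall : ∀ j ∈ Finset.Icc 1 12, A.charpoly.eval (z ^ j) = 0 := by
    intro j hj
    have h6 : ∀ a b : ℕ, A.charpoly.eval (z ^ (j0 * 3 ^ a * 5 ^ b)) = 0 := by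
      intro a b
      induction b with
      | zero =>
        induction a with
        | zero => simpa using hj0'
        | succ a ih =>
          have := h3 _ ih
          rw [← pow_mul] at this
          rwa [show j0 * 3 ^ (a + 1) * 5 ^ 0 = j0 * 3 ^ a * 5 ^ 0 * 3 by ring]
      | succ b ih =>
        have := h5 _ ih
        rw [← pow_mul] at this
        rwa [show j0 * 3 ^ a * 5 ^ (b + 1) = j0 * 3 ^ a * 5 ^ b * 5 by ring]
    have h7 : ∀ j0 ∈ Finset.Icc 1 12, ∀ j ∈ Finset.Icc 1 12, ∃ a ∈ Finset.range 3, ∃ b ∈ Finset.range 4,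
        j0 * 3 ^ a * 5 ^ b % 13 = j := by decide
    obtain ⟨a, -, b, -, h8⟩ := h7 j0 hj0 j hj
    have h9 := h6 a b
    rwa [← Nat.div_add_mod (j0 * 3 ^ a * 5 ^ b) 13, h8, pow_add, pow_mul, hz13, one_pow, one_mul] at h9
  have hroots : (Finset.Icc 1 12).image (fun j : ℕ => z ^ j) ⊆ A.charpoly.roots.toFinset := by
    intro l hl
    obtain ⟨j, hj, rfl⟩ := Finset.mem_image.1 hl
    rw [Multiset.mem_toFinset, Polynomial.mem_roots (Matrix.charpoly_monic A).ne_zero]
    exact hall j hj
  have hcard : ((Finset.Icc 1 12).image (fun j : ℕ => z ^ j)).card = 12 := by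
    rw [Finset.card_image_of_injOn]
    · simp
    · intro a ha b hb hab
      have ha' := Finset.mem_Icc.1 ha
      have hb' := Finset.mem_Icc.1 hb
      exact hz.pow_inj (by omega) (by omega) hab
  calc 12 = ((Finset.Icc 1 12).image (fun j : ℕ => z ^ j)).card := hcard.symm
    _ ≤ A.charpoly.roots.toFinset.card := Finset.card_le_card hroots
    _ ≤ Multiset.card A.charpoly.roots := Multiset.toFinset_card_le _
    _ ≤ A.charpoly.natDegree := Polynomial.card_roots' _
    _ = Fintype.card i := Matrix.charpoly_natDegree_eq_dim A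

end eig

/-- an element of order 13 of `Sz(8)` conjugate to its fifth power -/
theorem exists_thirteen {F : Type*} [Field F] [Fintype F] (hF : Fintype.card F = 2 ^ (2 * 1 + 1)) :
    ∃ s g : Cfsg.Sz F 1, orderOf s = 13 ∧ g * s * g⁻¹ = s ^ 5 := by
  classical
  have hfin : Finite (Cfsg.Sz F 1) := inferInstance
  obtain ⟨U, hUc, hUk, hUcent, hUn⟩ := Cfsg.Agent.S0333.result le_rfl hF 13 (by norm_num)
  obtain ⟨u, hu⟩ := hUc.exists_generator
  have huo : orderOf (u : Cfsg.Sz F 1) = 13 := by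
    rw [Subgroup.orderOf_coe, orderOf_eq_card_of_forall_mem_zpowers hu, hUk]
  have hzU : zpowers (u : Cfsg.Sz F 1) = U := by
    refine Subgroup.eq_of_le_of_card_ge (zpowers_le.2 u.2) ?_
    rw [Nat.card_zpowers, huo, hUk]
  have hu1 : (u : Cfsg.Sz F 1) ≠ 1 := by
    intro h
    rw [h, orderOf_one] at huo
    omega
  have hcp := Cfsg.Agent.H439.Der.card_conjPow_mul (u : Cfsg.Sz F 1)
  rw [hUcent u u.2 hu1, hzU, hUn, hUk] at hcp
  have hc4 : Nat.card (Cfsg.Agent.H439.Der.conjPow (u : Cfsg.Sz F 1)) = 4 := by omega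
  -- `conjPow u ⊆ {u, u ^ 5, u ^ 8, u ^ 12}`
  have hsub : Cfsg.Agent.H439.Der.conjPow (u : Cfsg.Sz F 1) ⊆
      (({1, 5, 8, 12} : Finset ℕ).image fun j => (u : Cfsg.Sz F 1) ^ j : Finset (Cfsg.Sz F 1)) := by
    rintro y ⟨hy, g, hg⟩
    obtain ⟨k, hk, hky⟩ : ∃ k < 13, (u : Cfsg.Sz F 1) ^ k = y := by
      rw [mem_zpowers_iff_mem_range_orderOf, huo] at hy
      obtain ⟨k, hk, hky⟩ := Finset.mem_image.1 hy
      exact ⟨k, Finset.mem_range.1 hk, hky⟩
    rw [← hky] at hg
    have hpow : ∀ n : ℕ, g ^ n * (u : Cfsg.Sz F 1) * (g ^ n)⁻¹ = (u : Cfsg.Sz F 1) ^ (k ^ n) := by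
      intro n
      induction n with
      | zero => simp
      | succ n ih =>
        calc g ^ (n + 1) * (u : Cfsg.Sz F 1) * (g ^ (n + 1))⁻¹
            = g * (g ^ n * u * (g ^ n)⁻¹) * g⁻¹ := by rw [pow_succ']; group
          _ = (g * u * g⁻¹) ^ (k ^ n) := by rw [ih, conj_pow]
          _ = _ := by rw [hg, ← pow_mul, pow_succ']
    have hgN : g ∈ Subgroup.normalizer (U : Set (Cfsg.Sz F 1)) := by
      rw [← hzU]
      apply Cfsg.Agent.H439.Der.mem_normalizer_of
      rw [hg]
      exact pow_mem (mem_zpowers _) _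
    have hg52 : g ^ 52 = 1 := by
      have h1 := Subgroup.orderOf_dvd_natCard _ hgN
      rw [hUn] at h1
      exact orderOf_dvd_iff_pow_eq_one.1 h1
    have h2 := hpow 52
    rw [hg52, one_mul, inv_one, mul_one] at h2
    have h3 : k ^ 52 % 13 = 1 := by
      have h4 : (u : Cfsg.Sz F 1) ^ 1 = (u : Cfsg.Sz F 1) ^ (k ^ 52) := by rw [pow_one]; exact h2
      rw [pow_eq_pow_iff_modEq, huo] at h4
      exact h4.symm
    have h5 : ∀ k ∈ Finset.range 13, k ^ 52 % 13 = 1 → k ∈ ({1, 5, 8, 12} : Finset ℕ) := by decide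
    rw [Finset.coe_image]
    exact ⟨k, h5 k (Finset.mem_range.2 hk) h3, hky⟩
  have heq := Set.eq_of_subset_of_ncard_le hsub (by
    rw [Set.ncard_coe_finset, ← Nat.card_coe_set_eq, hc4]
    exact Finset.card_image_le.trans (by decide))
  have h5 : (u : Cfsg.Sz F 1) ^ 5 ∈ Cfsg.Agent.H439.Der.conjPow (u : Cfsg.Sz F 1) := by
    rw [heq, Finset.coe_image]
    exact ⟨5, by decide, rfl⟩
  obtain ⟨-, g, hg⟩ := h5
  exact ⟨u, g, huo, hg⟩

open Cfsg.Geo in
/-- the scalars over a field with 3 elements -/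
theorem scalar_sq {F : Type} [Field F] [Fintype F] (hF : Fintype.card F = 3) {i : Type} [Fintype i] [DecidableEq i]
    {D : Matrix.GeneralLinearGroup i F} (hD : D ∈ scalars i F) : D ^ 2 = 1 := by
  classical
  obtain ⟨c, rfl⟩ := hD
  have h1 : c ^ 2 = 1 := by
    have h2 := pow_card_eq_one (G := Fˣ) (x := c)
    rwa [Fintype.card_units, hF] at h2
  rw [← map_pow, h1, map_one]

open Cfsg.Geo in
theorem scalar_comm {F : Type} [Field F] {i : Type} [Fintype i] [DecidableEq i]
    {D : Matrix.GeneralLinearGroup i F} (hD : D ∈ scalars i F) (g : Matrix.GeneralLinearGroup i F) :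
    D * g = g * D := by
  obtain ⟨c, hc⟩ := (mem_scalars_iff D).1 hD
  apply Units.ext
  rw [Units.val_mul, Units.val_mul, hc]
  simp

open Cfsg.Geo in
/-- **`Sz(8)` is not in the residual class in dimension at most 8 over `F₃`.** -/
theorem sz_res {F : Type} [Field F] [Fintype F] (hF : Fintype.card F = 3) {i : Type} [Fintype i] [DecidableEq i]
    (hi : Fintype.card i ≤ 8) {H P : Subgroup (Matrix.GeneralLinearGroup i F)} (_h : IsResidualCore H P) {S : Type}
    [Group S] [Finite S] (e : S ≃* P ⧸ (scalars i F).subgroupOf P) (hS : Cfsg.Agent.H436.IsNamed (.sz 8) S) : False := by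
  classical
  obtain ⟨F', iF, iF', m, hm, hF', h8, ⟨e1⟩⟩ := hS.real
  have hm1 : m = 1 := by
    have h1 : (2 : ℕ) ^ 3 = 2 ^ (2 * m + 1) := by rw [← h8]; norm_num
    have := Nat.pow_right_injective le_rfl h1
    omega
  subst hm1
  have hF2 : Fintype.card F' = 2 ^ (2 * 1 + 1) := by rw [hF']; exact h8
  obtain ⟨f⟩ := Cfsg.Agent.OddCyclic.ClaimC.SzIso.iso le_rfl hF2
  obtain ⟨s, g, hs, hg⟩ := exists_thirteen hF2
  have hs13 : s ^ 13 = 1 := by rw [← hs]; exact pow_orderOf_eq_one s
  let E : Cfsg.Sz F' 1 ≃* P ⧸ (scalars i F).subgroupOf P := (f.trans e1.symm).trans e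
  let π : P →* P ⧸ (scalars i F).subgroupOf P := QuotientGroup.mk' _
  have hπs : Function.Surjective π := QuotientGroup.mk'_surjective _
  have hker : ∀ p : P, π p = 1 → (p : Matrix.GeneralLinearGroup i F) ∈ scalars i F := fun p hp =>
    Subgroup.mem_subgroupOf.1 ((QuotientGroup.eq_one_iff p).1 hp)
  obtain ⟨x0, hx0⟩ := hπs (E s)
  obtain ⟨g0, hg0⟩ := hπs (E g)
  have hx013 := hker (x0 ^ 13) (by rw [map_pow, hx0, ← map_pow, hs13, map_one])
  obtain ⟨x, hx⟩ : ∃ x : P, x = x0 ^ 14 := ⟨_, rfl⟩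
  have hπx : π x = E s := by
    rw [hx, map_pow, hx0, ← map_pow, pow_succ s 13, hs13, one_mul]
  have hx13 : ((x : P) : Matrix.GeneralLinearGroup i F) ^ 13 = 1 := by
    have h1 : ((x : P) : Matrix.GeneralLinearGroup i F) ^ 13 = (((x0 ^ 13 : P) : Matrix.GeneralLinearGroup i F) ^ 2) ^ 7 := by
      rw [hx, Subgroup.coe_pow, Subgroup.coe_pow, ← pow_mul, ← pow_mul, ← pow_mul]
    rw [h1, scalar_sq hF hx013, one_pow]
  have hD := hker (g0 * x * g0⁻¹ * (x ^ 5)⁻¹) (by
    rw [map_mul, map_mul, map_mul, map_inv, map_inv, map_pow, hπx, hg0, ← map_inv, ← map_mul, ← map_mul, hg,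
      map_pow, mul_inv_cancel])
  set X : Matrix.GeneralLinearGroup i F := ((x : P) : Matrix.GeneralLinearGroup i F) with hX
  set G : Matrix.GeneralLinearGroup i F := ((g0 : P) : Matrix.GeneralLinearGroup i F) with hG
  have hD' : G * X * G⁻¹ * (X ^ 5)⁻¹ ∈ scalars i F := hD
  set D := G * X * G⁻¹ * (X ^ 5)⁻¹ with hDd
  have hD1 : D = 1 := by
    have h2 : D ^ 2 = 1 := scalar_sq hF hD'
    have h13 : D ^ 13 = 1 := by
      have h3 : D * X ^ 5 = G * X * G⁻¹ := by rw [hDd, inv_mul_cancel_right]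
      have h4 : (D * X ^ 5) ^ 13 = D ^ 13 * (X ^ 5) ^ 13 := (show Commute D (X ^ 5) from scalar_comm hD' _).mul_pow 13
      rw [h3, conj_pow, hx13, mul_one, mul_inv_cancel, ← pow_mul, mul_comm 5 13, pow_mul, hx13, one_pow, mul_one] at h4
      exact h4.symm
    calc D = D ^ 13 * ((D ^ 2) ^ 6)⁻¹ := by rw [← pow_mul]; group
      _ = 1 := by rw [h13, h2]; simp
  have hc : G * X * G⁻¹ = X ^ 5 := by
    rw [← mul_inv_eq_one, ← hDd, hD1]
  have hX1 : (X : Matrix i i F) ≠ 1 := by
    intro h1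
    have h2 : X = 1 := Units.ext h1
    have h3 : x = 1 := Subtype.ext h2
    rw [h3, map_one] at hπx
    have h4 : s = 1 := E.injective (hπx.symm.trans (map_one E).symm)
    rw [h4, orderOf_one] at hs
    omega
  have h12 := eig_lemma hF (X : Matrix i i F) (G : Matrix i i F) ((G⁻¹ : Matrix.GeneralLinearGroup i F) : Matrix i i F)
    (by rw [← Units.val_mul, mul_inv_cancel, Units.val_one]) (by rw [← Units.val_mul, inv_mul_cancel, Units.val_one])
    (by rw [← Units.val_pow_eq_pow_val, hx13, Units.val_one]) hX1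
    (by rw [← Units.val_mul, ← Units.val_mul, hc, Units.val_pow_eq_pow_val])
  omega

end Cfsg.Agent.H768.El
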